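import Cfsg.Prelude.Def_Blocks
import Cfsg.Agent.Lib.CharKernel
import Cfsg.Agent.Lib.Glauberman.Layers
import Cfsg.Agent.Lib.CharClifford.Extend
import Cfsg.Agent.Lib.CharClifford.Basic
import Cfsg.Agent.Lib.Char.Degree
import Cfsg.Agent.Lib.Hall.Basic
import Cfsg.Agent.Lib.GenStruct.PHall
import Cfsg.Agent.Lib.PLength.Basic
import Cfsg.Agent.Lib.LocalFusion.PSolvable
import Cfsg.Agent.S4602

/-! Characters of degree prime to one prime whose degrees are prime to another: basic lemmas. -/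

set_option autoImplicit false
set_option linter.unusedSectionVars false

namespace Cfsg.Agent.Lib.PQDegree

open Cfsg Cfsg.Agent.Lib.Char
open scoped ComplexConjugate Pointwise Classical

universe u

variable {G : Type u} [Group G] [Finite G] {p q : ℕ}

/-- Every irreducible character of degree prime to `p` has degree prime to `q`. -/
def Hyp (p q : ℕ) (G : Type u) [Group G] : Prop :=
  ∀ χ : IrrCharacter G, ¬ p ∣ charDegree (χ : G → ℂ) → ¬ q ∣ charDegree (χ : G → ℂ)

theorem Hyp.quotient (h : Hyp p q G) (N : Subgroup G) [N.Normal] : Hyp p q (G ⧸ N) := fun η hη => by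
  have := h ⟨fun g => (η : G ⧸ N → ℂ) (g : G ⧸ N),
    isIrrCharacter_comp η.2 (QuotientGroup.mk' N) (QuotientGroup.mk'_surjective N)⟩
  simp only [charDegree, QuotientGroup.mk_one] at this hη ⊢
  exact this hη

theorem ne_bot_or_ne_bot [Nontrivial G] [Fact p.Prime] (hs : IsPSolvable p G) :
    pCore p G ≠ ⊥ ∨ pPrimeCore p G ≠ ⊥ := by
  by_contra! h
  have hc := LocalFusion.centralizer_pCore_le_of_isPSolvable hs h.2
  rw [h.1] at hc
  obtain ⟨x, hx⟩ := exists_ne (1 : G)
  refine hx (Subgroup.mem_bot.1 (hc ?_))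
  rw [Subgroup.mem_centralizer_iff]
  intro y hy
  rw [Subgroup.mem_bot.1 hy, one_mul, mul_one]

/-- An invariant linear character extends along a complement. -/
theorem exists_hom_extend (M : Subgroup G) [M.Normal] {U K : Subgroup G} (hMU : M ≤ U) (hKU : K ≤ U)
    (hdec : ∀ u ∈ U, ∃ m ∈ M, m⁻¹ * u ∈ K) (hdis : M ⊓ K = ⊥) (ν : M →* ℂˣ)
    (hinv : ∀ k ∈ K, ∀ m : M, ν ⟨k * m * k⁻¹, (inferInstance : M.Normal).conj_mem m m.2 k⟩ = ν m) :
    ∃ μ : U →* ℂˣ, ∀ m : M, μ ⟨m, hMU m.2⟩ = ν m := by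
  choose f hfM hfK using fun u : U => hdec u u.2
  have huniq : ∀ (u : U) (m : M), (m : G)⁻¹ * u ∈ K → (⟨f u, hfM u⟩ : M) = m := by
    intro u m hm
    have h1 : (m : G)⁻¹ * f u ∈ M ⊓ K := ⟨M.mul_mem (M.inv_mem m.2) (hfM u), by
      simpa [mul_assoc] using K.mul_mem hm (K.inv_mem (hfK u))⟩
    rw [hdis, Subgroup.mem_bot, inv_mul_eq_one] at h1
    exact Subtype.ext h1.symm
  refine ⟨MonoidHom.mk' (fun u => ν ⟨f u, hfM u⟩) fun u v => ?_, fun m => ?_⟩
  · set k := (f u)⁻¹ * (u : G) with hk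
    let w : M := ⟨k * f v * k⁻¹, (inferInstance : M.Normal).conj_mem _ (hfM v) k⟩
    have h1 : (⟨f (u * v), hfM _⟩ : M) = ⟨f u, hfM u⟩ * w := by
      refine huniq _ _ ?_
      have h2 := K.mul_mem (hfK u) (hfK v)
      convert h2 using 1
      simp only [Subgroup.coe_mul, hk, w]
      group
    rw [h1, map_mul]
    exact congrArg _ (hinv k (hfK u) ⟨f v, hfM v⟩)
  · exact congrArg ν (huniq ⟨m, hMU m.2⟩ m (by rw [inv_mul_cancel]; exact one_mem K))

/-- The determinant of a character fixed by conjugation is fixed by it. -/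
theorem detChar_conj_apply (M : Subgroup G) [M.Normal] {θ : M → ℂ} (hθ : IsIrrCharacter M θ) (g : G)
    (hg : conjChar M g θ = θ) (m : M) :
    detChar θ (MulAut.conjNormal g m) = detChar θ m := by
  obtain ⟨n, ρ, hρ, rfl⟩ := hθ
  haveI := hρ
  let ρ' : Representation ℂ M (Fin n → ℂ) := ρ.comp (MulAut.conjNormal g).toMonoidHom
  have hch : ρ'.character = ρ.character := by
    conv_rhs => rw [← hg, conjChar_eq_comp]
    rfl
  haveI : ρ'.IsIrreducible := CharClifford.isIrreducible_of_isIrrCharacter ρ' (by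
    rw [hch]; exact isIrrCharacter_character ρ)
  have h1 : detChar ρ.character m = LinearMap.det (ρ' m) := by
    rw [← hch, CharClifford.detChar_character ρ']
  rw [h1, CharClifford.detChar_character ρ]
  rfl

/-- A character with an extension to a subgroup of index prime to `p` lies under a character of
degree prime to `p`. -/
theorem exists_over [Fact p.Prime] (M : Subgroup G) [M.Normal] [Fintype M] {U : Subgroup G}
    (hMU : M ≤ U) (hU : ¬ p ∣ U.index) {θ : M → ℂ} (hθ : IsIrrCharacter M θ) {η : U → ℂ}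
    (hη : IsIrrCharacter U η) (hres : ∀ m : M, η ⟨m, hMU m.2⟩ = θ m) (hd : ¬ p ∣ charDegree θ) :
    ∃ χ : IrrCharacter G, ¬ p ∣ charDegree (χ : G → ℂ) ∧
      classInner (fun m : M => (χ : G → ℂ) m) θ ≠ 0 := by
  have := Fintype.ofFinite G
  have := Fintype.ofFinite U
  have hηc := isCharacter_of_isIrr hη
  have hφ := isCharacter_indFun U hηc
  choose n hn using fun χ : IrrCharacter G => classInner_natCast hφ (isCharacter_of_isIrr χ.2)
  have hdeg : charDegree η = charDegree θ := by
    simp only [charDegree]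
    rw [← hres 1]
    rfl
  have hsum : (U.index * charDegree η : ℕ) = ∑ χ : IrrCharacter G, n χ * charDegree (χ : G → ℂ) := by
    have h1 := congrFun (eq_sum_classInner_smul (isClassFunction_indFun U η)) 1
    rw [indFun_one, apply_one_eq_charDegree hηc] at h1
    simp only [Finset.sum_apply, Pi.smul_apply, smul_eq_mul, hn,
      fun χ : IrrCharacter G => apply_one_eq_charDegree (isCharacter_of_isIrr χ.2)] at h1
    exact_mod_cast h1
  obtain ⟨χ, hnχ, hχ⟩ : ∃ χ : IrrCharacter G, n χ ≠ 0 ∧ ¬ p ∣ charDegree (χ : G → ℂ) := by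
    by_contra! h
    have : p ∣ U.index * charDegree η := hsum ▸ Finset.dvd_sum fun χ _ => by
      by_cases h0 : n χ = 0
      · simp [h0]
      · exact Dvd.dvd.mul_left (h χ h0) _
    rcases (Fact.out : p.Prime).dvd_mul.1 this with h1 | h1
    · exact hU h1
    · exact hd (hdeg ▸ h1)
  refine ⟨χ, hχ, Glauberman.over_trans U.subtype (Subgroup.inclusion hMU) (isCharacter_of_isIrr χ.2) hη
    (isCharacter_of_isIrr hθ) ?_ ?_⟩
  · intro h0
    refine hnχ ?_
    have h1 := hn χ
    rw [classInner_indFun U η (isClassFunction_of_isIrr χ.2), classInner_conj_symm] at h1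
    rw [show (fun h : U => (χ : G → ℂ) h) = fun m => (χ : G → ℂ) (U.subtype m) from rfl, h0, map_zero] at h1
    exact_mod_cast h1.symm
  · rw [show (fun z : M => η (Subgroup.inclusion hMU z)) = θ from funext hres, classInner_irr_self hθ]
    exact one_ne_zero

/-- The inertia group of such a character has index prime to `q`. -/
theorem not_dvd_index_inertia [Fact p.Prime] (h : Hyp p q G) (M : Subgroup G) [M.Normal]
    {U : Subgroup G} (hMU : M ≤ U) (hU : ¬ p ∣ U.index) {θ : M → ℂ} (hθ : IsIrrCharacter M θ)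
    {η : U → ℂ} (hη : IsIrrCharacter U η) (hres : ∀ m : M, η ⟨m, hMU m.2⟩ = θ m)
    (hd : ¬ p ∣ charDegree θ) : ¬ q ∣ (inertia M θ).index := by
  have := Fintype.ofFinite G
  have := Fintype.ofFinite M
  obtain ⟨χ, hχ, hne⟩ := exists_over M hMU hU hθ hη hres hd
  intro hq
  refine h χ hχ ?_
  obtain ⟨k, hk⟩ := classInner_natCast (isCharacter_restrict (isCharacter_of_isIrr χ.2) M)
    (isCharacter_of_isIrr hθ)
  have h1 := clifford_degree M χ.2 hθ hne
  rw [hk, apply_one_eq_charDegree (isCharacter_of_isIrr χ.2),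
    apply_one_eq_charDegree (isCharacter_of_isIrr hθ)] at h1
  have h2 : charDegree (χ : G → ℂ) = k * (inertia M θ).index * charDegree θ := by exact_mod_cast h1
  rw [h2]
  exact (hq.mul_left k).mul_right _

theorem sylow_eq_of_le [Fact q.Prime] (Q : Sylow q G) {S : Subgroup G} (hS : IsPGroup q S)
    (h : (Q : Subgroup G) ≤ S) : (Q : Subgroup G) = S :=
  (Q.3 hS h).symm

/-- Sylow `q`-subgroups normalized by `P` are equal once the normalizer of `P` normalizes one. -/
theorem eq_of_normalized [Fact p.Prime] {P : Sylow p G} {Q S : Sylow q G}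
    [Fact q.Prime]
    (hQ : Subgroup.normalizer ((P : Subgroup G) : Set G) ≤ Subgroup.normalizer ((Q : Subgroup G) : Set G))
    (hS : (P : Subgroup G) ≤ Subgroup.normalizer ((S : Subgroup G) : Set G)) : S = Q := by
  obtain ⟨y, hy⟩ := MulAction.exists_smul_eq G Q S
  have hyP : ((y • P : Sylow p G) : Subgroup G) ≤ Subgroup.normalizer ((S : Subgroup G) : Set G) := by
    rw [Sylow.coe_subgroup_smul]
    rintro _ ⟨x, hx, rfl⟩
    rw [← hy]
    have h1 : x • Q = Q :=
      Sylow.smul_eq_iff_mem_normalizer.2 (hQ (Subgroup.le_normalizer hx))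
    refine Sylow.smul_eq_iff_mem_normalizer.1 ?_
    show (y * x * y⁻¹) • y • Q = y • Q
    rw [mul_smul, mul_smul, inv_smul_smul, h1]
  obtain ⟨n, hn⟩ := MulAction.exists_smul_eq (Subgroup.normalizer ((S : Subgroup G) : Set G))
    ((y • P).subtype hyP) (P.subtype hS)
  have hn' : (n : G) • (y • P) = P := by
    refine Sylow.subtype_injective (hP := ?_) (hQ := hS) ?_
    · rw [Sylow.coe_subgroup_smul]
      rintro _ ⟨x, hx, rfl⟩
      exact Subgroup.mul_mem _ (Subgroup.mul_mem _ n.2 (hyP hx)) (Subgroup.inv_mem _ n.2)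
    rw [← hn, Sylow.smul_subtype]
    rfl
  have hny : ((n : G) * y) • Q = Q := by
    refine Sylow.smul_eq_iff_mem_normalizer.2 (hQ ?_)
    exact Sylow.smul_eq_iff_mem_normalizer.1 (by rw [mul_smul, hn'])
  rw [mul_smul, hy, Sylow.smul_eq_iff_mem_normalizer.2 n.2] at hny
  exact hny

/-- The subgroup above `P` of index prime to `q` contains the normalized Sylow `q`-subgroup. -/
theorem le_of_index [Fact p.Prime] [Fact q.Prime] (hpq : p ≠ q) (hps : IsPSolvable p G)
    {P : Sylow p G} {Q : Sylow q G}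
    (hQ : Subgroup.normalizer ((P : Subgroup G) : Set G) ≤ Subgroup.normalizer ((Q : Subgroup G) : Set G))
    (T : Subgroup G) (hPT : (P : Subgroup G) ≤ T) (hT : ¬ q ∣ T.index) :
    (Q : Subgroup G) ≤ T := by
  have hR : ¬ q ∣ (pPrimeCore p G).index :=
    (S4602.result p q hpq hps).1 ⟨P, Q, Subgroup.le_normalizer.trans hQ⟩
  set R := pPrimeCore p G
  have hT' : ¬ q ∣ (pPrimeCore p T).index := by
    have hn : (R.subgroupOf T).Normal := inferInstance
    have hle : R.subgroupOf T ≤ pPrimeCore p T := Hall.le_pPrimeCore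
      ((Hall.coprime_card_pPrimeCore (G := G) p).coprime_dvd_left (Subgroup.card_comap_dvd_of_injective _ _ T.subtype_injective))
    exact fun h => hR ((h.trans (Subgroup.index_dvd_of_le hle)).trans (Subgroup.relIndex_dvd_index_of_normal R T))
  obtain ⟨P₁, Q₁, hn⟩ := (S4602.result p q hpq (GenStruct.PHall.isPSolvable_subgroup hps T)).2 hT'
  obtain ⟨c, hc⟩ := MulAction.exists_smul_eq T P₁ (P.subtype hPT)
  have hn' : ((P.subtype hPT : Sylow p T) : Subgroup T) ≤
      Subgroup.normalizer (((c • Q₁ : Sylow q T) : Subgroup T) : Set T) := by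
    rw [← hc, Sylow.coe_subgroup_smul]
    rintro _ ⟨x, hx, rfl⟩
    refine Sylow.smul_eq_iff_mem_normalizer.1 ?_
    show (c * x * c⁻¹) • c • Q₁ = c • Q₁
    rw [mul_smul, mul_smul, inv_smul_smul, Sylow.smul_eq_iff_mem_normalizer.2 (hn hx)]
  set Q₂ := c • Q₁
  have hidx : ¬ q ∣ ((Q₂ : Subgroup T).map T.subtype).index := by
    rw [Subgroup.index_map_subtype]
    exact fun h => ((Fact.out : q.Prime).dvd_mul.1 h).elim Q₂.not_dvd_index hT
  have hpg : IsPGroup q ↥((Q₂ : Subgroup T).map T.subtype) := Q₂.2.map _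
  have hPS : (P : Subgroup G) ≤ Subgroup.normalizer ((hpg.toSylow hidx : Sylow q G) : Set G) := by
    intro x hx
    refine Subgroup.le_normalizer_map T.subtype ⟨⟨x, hPT hx⟩, hn' ?_, rfl⟩
    exact hx
  rw [← eq_of_normalized hQ hPS]
  exact Subgroup.map_subtype_le _

end Cfsg.Agent.Lib.PQDegree
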