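import Cfsg.Agent.Lib.PQDegree.Main

/-! Induction for the normalizer containment. -/

set_option autoImplicit false
set_option linter.unusedSectionVars false

namespace Cfsg.Agent.Lib.PQDegree

open Cfsg Cfsg.Agent.Lib.Char
open scoped ComplexConjugate Pointwise Classical

universe u

/-- If the conjugates of a subgroup cover the group then it is the whole group. -/
theorem eq_top_of_conj_cover {H : Type u} [Group H] [Finite H] (K : Subgroup H)
    (h : ∀ m : H, ∃ c : H, c⁻¹ * m * c ∈ K) : K = ⊤ := by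
  have := Fintype.ofFinite H
  have := Fintype.ofFinite (H ⧸ K)
  have hb := MulAction.sum_card_fixedBy_eq_card_orbits_mul_card_group H (H ⧸ K)
  have horb : Fintype.card (MulAction.orbitRel.Quotient H (H ⧸ K)) = 1 := by
    rw [Fintype.card_eq_one_iff]
    refine ⟨Quotient.mk'' ((1 : H) : H ⧸ K), fun o => ?_⟩
    induction o using Quotient.inductionOn' with
    | h x => exact Quotient.sound' (MulAction.exists_smul_eq H ((1 : H) : H ⧸ K) x)
  rw [horb, one_mul] at hb
  have hge : ∀ m ∈ (Finset.univ : Finset H), 1 ≤ Fintype.card (MulAction.fixedBy (H ⧸ K) m) := fun m _ => by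
    obtain ⟨c, hc⟩ := h m
    refine Fintype.card_pos_iff.2 ⟨⟨(c : H ⧸ K), ?_⟩⟩
    show ((m * c : H) : H ⧸ K) = (c : H ⧸ K)
    refine (QuotientGroup.eq.2 ?_).symm
    rw [← mul_assoc]
    exact hc
  have hsum : ∑ _m : H, 1 = Fintype.card H := by simp
  have hall := (Finset.sum_eq_sum_iff_of_le hge).1 (hsum.trans hb.symm)
  have h1 := hall 1 (Finset.mem_univ 1)
  rw [← Subgroup.index_eq_one, Subgroup.index_eq_card, Nat.card_eq_fintype_card, h1]
  refine Fintype.card_congr (Equiv.subtypeUnivEquiv fun x => ?_).symm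
  exact one_smul H x

variable {G : Type u} [Group G] [Finite G] {p q : ℕ} [Fact p.Prime] [Fact q.Prime]

/-- Case of a normal `{p,q}'`-subgroup. -/
theorem of_pq_prime (hpq : p ≠ q) (hps : IsPSolvable p G) (h : Hyp p q G) (M : Subgroup G) [M.Normal]
    (hMp : ¬ p ∣ Nat.card M) (hMq : ¬ q ∣ Nat.card M) {P : Sylow p G} (Qb : Sylow q (G ⧸ M))
    (hQb : Subgroup.normalizer ((P.mapSurjective (QuotientGroup.mk'_surjective M) : Subgroup (G ⧸ M)) : Set (G ⧸ M)) ≤
      Subgroup.normalizer ((Qb : Subgroup (G ⧸ M)) : Set (G ⧸ M))) :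
    ∃ Q : Sylow q G,
      Subgroup.normalizer ((P : Subgroup G) : Set G) ≤ Subgroup.normalizer ((Q : Subgroup G) : Set G) := by
  have hp : p.Prime := Fact.out
  have hq : q.Prime := Fact.out
  have := Fintype.ofFinite G
  set L := (Qb : Subgroup (G ⧸ M)).comap (QuotientGroup.mk' M) with hL
  have hNL := normalizer_le_comap M hQb
  have hPL : (P : Subgroup G) ≤ Subgroup.normalizer (L : Set G) := Subgroup.le_normalizer.trans hNL
  obtain ⟨j, hj⟩ := IsPGroup.iff_card.1 P.2
  have hcopL : (Nat.card (P : Subgroup G)).Coprime (Nat.card L) := by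
    rw [hj]
    refine Nat.Coprime.pow_left j (hp.coprime_iff_not_dvd.2 fun hd => ?_)
    have h1 : Nat.card L = Nat.card M * Nat.card (Qb : Subgroup (G ⧸ M)) := by
      have hl := L.card_mul_index
      rw [hL, Subgroup.index_comap_of_surjective _ (QuotientGroup.mk'_surjective M),
        Subgroup.card_eq_card_quotient_mul_card_subgroup M, ← (Qb : Subgroup (G ⧸ M)).card_mul_index,
        mul_right_comm, mul_comm (Nat.card (Qb : Subgroup (G ⧸ M)))] at hl
      exact Nat.eq_of_mul_eq_mul_right (Nat.pos_of_ne_zero Subgroup.index_ne_zero_of_finite) hl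
    obtain ⟨k, hk⟩ := IsPGroup.iff_card.1 Qb.2
    rw [h1, hk] at hd
    exact (hp.dvd_mul.1 hd).elim hMp fun h2 => hpq ((Nat.prime_dvd_prime_iff_eq hp hq).1 (hp.dvd_of_dvd_pow h2))
  have hPsol : Group.IsSolvable (P : Subgroup G) := by have := P.2.isNilpotent; infer_instance
  obtain ⟨Q₀, hQ₀⟩ := Lib.Coprime.exists_invariant_sylow hPL hcopL (Or.inl hPsol) q
  obtain ⟨Q, hQe, hdec⟩ := exists_lift M Qb Q₀
  rw [← hQe] at hQ₀
  have hQL : (Q : Subgroup G) ≤ L := hQe ▸ Subgroup.map_subtype_le _
  obtain ⟨i, hi⟩ := IsPGroup.iff_card.1 Q.2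
  have hQM : Disjoint M (Q : Subgroup G) := Subgroup.disjoint_of_coprime_natCard (by
    rw [hi]; exact ((hq.coprime_iff_not_dvd.2 hMq).symm).pow_right i)
  -- the operator group
  set A := (Q : Subgroup G) ⊔ (P : Subgroup G) with hA
  have hcardA : Nat.card A = Nat.card (P : Subgroup G) * Nat.card (Q : Subgroup G) := by
    rw [hA, sup_comm]
    refine Lib.Coprime.card_sup_of_coprime hQ₀ ?_
    rw [hi, hj]
    exact Nat.Coprime.pow _ _ ((Nat.coprime_primes hp hq).2 hpq)
  have hAsol : Group.IsSolvable A := by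
    set N := (Q : Subgroup G).subgroupOf A
    have hN : N.Normal := (Subgroup.normal_subgroupOf_iff_le_normalizer le_sup_left).2
      (sup_le Subgroup.le_normalizer hQ₀)
    have hNq : IsPGroup q N := Q.2.comap_subtype
    have := hNq.isNilpotent
    have hidx : Nat.card (A ⧸ N) = p ^ j := by
      have h1 := Subgroup.card_eq_card_quotient_mul_card_subgroup N
      rw [hcardA, hj, Nat.card_congr (Subgroup.subgroupOfEquivOfLe (le_sup_left : (Q : Subgroup G) ≤ A)).toEquiv] at h1
      exact (Nat.eq_of_mul_eq_mul_right Nat.card_pos h1).symm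
    have := (IsPGroup.of_card hidx).isNilpotent
    exact solvable_of_ker_le_range N.subtype (QuotientGroup.mk' N) (by rw [QuotientGroup.ker_mk', Subgroup.range_subtype])
  have hnA : ∀ s ∈ A, ∀ g ∈ M, s * g * s⁻¹ ∈ M := fun s _ g hg => (inferInstance : M.Normal).conj_mem g hg s
  have hnP : ∀ s ∈ (P : Subgroup G), ∀ g ∈ M, s * g * s⁻¹ ∈ M := fun s _ g hg =>
    (inferInstance : M.Normal).conj_mem g hg s
  let aA := Glauberman.conjHom hnA
  let aP := Glauberman.conjHom hnP
  have hcopP : (Nat.card M).Coprime (Nat.card (P : Subgroup G)) := by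
    rw [hj]; exact (hp.coprime_iff_not_dvd.2 hMp).symm.pow_right j
  have hcopA : (Nat.card M).Coprime (Nat.card A) := by
    rw [hcardA]
    refine Nat.Coprime.mul_right hcopP ?_
    rw [hi]; exact (hq.coprime_iff_not_dvd.2 hMq).symm.pow_right i
  have := Fintype.ofFinite M
  -- every invariant character is invariant under the larger group
  have hchar : ∀ θ : IrrCharacter M, Glauberman.Inv aA (θ : M → ℂ) ↔ Glauberman.Inv aP (θ : M → ℂ) := by
    intro θ
    refine ⟨fun hh x b => hh ⟨x, le_sup_right (a := (Q : Subgroup G)) x.2⟩ b, fun hh => ?_⟩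
    have hfix : ∀ g : G, conjChar M g (θ : M → ℂ) = θ ↔ ∀ b : M, (θ : M → ℂ) (MulAut.conjNormal g b) = (θ : M → ℂ) b := fun g => by
      rw [conjChar_eq_comp]; exact funext_iff
    have hPθ : (P : Subgroup G) ≤ inertia M (θ : M → ℂ) := fun g hg => (mem_inertia M).2 ((hfix g).2 fun b =>
      (congrArg (θ : M → ℂ) (Subtype.ext (MulAut.conjNormal_apply g b))).trans (hh ⟨g, hg⟩ b))
    -- extension to `M ⊔ P`
    set U := M ⊔ (P : Subgroup G) with hU
    have hdU : ∀ u ∈ U, ∃ a ∈ M, a⁻¹ * u ∈ (P : Subgroup G) := fun u hu => by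
      obtain ⟨a, ha, b, hb, rfl⟩ := Subgroup.mem_sup_of_normal_left.1 hu
      exact ⟨a, ha, by rwa [inv_mul_cancel_left]⟩
    have hdis : M ⊓ (P : Subgroup G) = ⊥ := (Subgroup.disjoint_of_coprime_natCard hcopP).eq_bot
    obtain ⟨n, ρ, hρ, hρc, hn, hdet⟩ := CharClifford.exists_detHom θ.2
    obtain ⟨μ, hμ⟩ := exists_hom_extend M (le_sup_left : M ≤ U) le_sup_right hdU hdis (CharClifford.detHom ρ)
      (fun k hk b => Units.ext (by
        rw [← hdet, ← hdet]
        have := detChar_conj_apply M θ.2 k ((hfix k).2 fun b => (congrArg (θ : M → ℂ)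
          (Subtype.ext (MulAut.conjNormal_apply k b))).trans (hh ⟨k, hk⟩ b)) b
        rw [← this]
        exact congrArg _ (Subtype.ext (MulAut.conjNormal_apply k b).symm)))
    have hMU : M ≤ U := le_sup_left
    let e := (Subgroup.subgroupOfEquivOfLe hMU : M.subgroupOf U ≃* M)
    let θ' : M.subgroupOf U → ℂ := (θ : M → ℂ) ∘ e
    have hθ' : IsIrrCharacter (M.subgroupOf U) θ' := CharClifford.isIrrCharacter_comp_equiv e θ.2
    have hinv' : ∀ u : U, conjChar (M.subgroupOf U) u θ' = θ' := by
      intro u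
      obtain ⟨a, ha, hb⟩ := hdU u u.2
      funext b
      have h2 := congrFun (show conjChar M (u : G) (θ : M → ℂ) = θ from (mem_inertia M).1 (by
        rw [show (u : G) = a * (a⁻¹ * u) by group]
        exact mul_mem (le_inertia M (isClassFunction_of_isIrr θ.2) ha) (hPθ hb))) (e b)
      exact Eq.trans (congrArg (θ : M → ℂ) (Subtype.ext (by simp [e]))) h2
    have hθ'1 : θ' 1 = n := by
      show (θ : M → ℂ) (e 1) = n
      rw [map_one, hn]
    have hidx : (M.subgroupOf U).index = Nat.card (P : Subgroup G) := by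
      have h1 := (M.subgroupOf U).card_mul_index
      have hcU : Nat.card U = Nat.card M * Nat.card (P : Subgroup G) := by
        rw [hU, sup_comm, Lib.Coprime.card_sup_of_coprime Subgroup.le_normalizer_of_normal hcopP.symm, mul_comm]
      rw [Nat.card_congr e.toEquiv, hcU] at h1
      exact Nat.eq_of_mul_eq_mul_left Nat.card_pos h1
    have hdn : n ∣ Nat.card M := by
      have := charDegree_dvd_card θ.2
      rwa [charDegree_eq_of_apply_one hn] at this
    obtain ⟨η, hη, hres⟩ := CharClifford.extends_of_det (G := U) (N := M.subgroupOf U) hθ' hinv' n hθ'1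
      (hidx ▸ (hcopP.coprime_dvd_left hdn).symm) μ (fun b => by
        rw [show (μ (b : U) : ℂ) = (μ ⟨(e b : G), hMU (e b).2⟩ : ℂ) from rfl, hμ (e b), ← hdet]
        obtain ⟨k, σ, hσ, hσc⟩ := θ.2
        haveI := hσ
        let σ' : Representation ℂ (M.subgroupOf U) (Fin k → ℂ) := σ.comp e.toMonoidHom
        have hch : σ'.character = θ' := by show _ = (θ : M → ℂ) ∘ e; rw [← hσc]; rfl
        haveI : σ'.IsIrreducible := CharClifford.isIrreducible_of_isIrrCharacter σ' (by rw [hch]; exact hθ')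
        rw [← hch, CharClifford.detChar_character σ', ← hσc, CharClifford.detChar_character σ]
        rfl)
    have hd : ¬ p ∣ charDegree (θ : M → ℂ) := fun hd => hMp (hd.trans (charDegree_dvd_card θ.2))
    have hle := le_inertia_of_ext hpq hps h M hQb hMU le_sup_right θ.2 hPθ hη
      (fun b => hres ⟨⟨b, hMU b.2⟩, b.2⟩) hd
    intro x b
    have hx : (x : G) ∈ inertia M (θ : M → ℂ) := (sup_le (hQL.trans hle) hPθ) x.2
    exact (congrArg (θ : M → ℂ) (Subtype.ext (MulAut.conjNormal_apply (x : G) b).symm)).trans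
      ((hfix x).1 ((mem_inertia M).1 hx) b)
  -- the fixed subgroups coincide
  have hcls : ∀ c : ConjClasses M, Glauberman.InvClass aP c → Glauberman.InvClass aA c := by
    have h1 := Glauberman.card_inv_irr_eq_of_solvable _ aA rfl hAsol hcopA
    have h2 := Glauberman.card_inv_irr_eq_of_solvable _ aP rfl hPsol hcopP
    rw [Nat.card_congr (Equiv.subtypeEquivRight hchar), h2] at h1
    let f : {c : ConjClasses M // Glauberman.InvClass aA c} → {c : ConjClasses M // Glauberman.InvClass aP c} :=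
      fun c => ⟨c.1, fun x k hk => c.2 ⟨x, le_sup_right (a := (Q : Subgroup G)) x.2⟩ k hk⟩
    have hf := ((Nat.bijective_iff_injective_and_card f).2 ⟨fun a b hab => Subtype.ext (congrArg Subtype.val hab :), h1.symm⟩).2
    intro c hc
    obtain ⟨c', hc'⟩ := hf ⟨c, hc⟩
    have he : c'.1 = c := congrArg Subtype.val hc'
    subst he
    exact c'.2
  have hcent : ∀ y ∈ (Q : Subgroup G), ∀ b : M, b ∈ Glauberman.fixed aP → Commute y (b : G) := by
    let Kf := (Glauberman.fixed aA).subgroupOf (Glauberman.fixed aP)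
    have hK : Kf = ⊤ := eq_top_of_conj_cover Kf fun b => by
      have hinvP : Glauberman.InvClass aP (ConjClasses.mk (b : M)) := by
        intro x k hk
        obtain ⟨d, rfl⟩ := isConj_iff.mp (ConjClasses.mk_eq_mk_iff_isConj.mp hk.symm)
        rw [map_mul, map_mul, map_inv, b.2 x, ConjClasses.mk_eq_mk_iff_isConj]
        exact (isConj_iff.mpr ⟨aP x d, rfl⟩).symm
      have hinvA := hcls _ hinvP
      let X := {k : M // ConjClasses.mk k = ConjClasses.mk (b : M)}
      haveI : Nonempty X := ⟨⟨b, rfl⟩⟩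
      letI : MulAction M X :=
        { smul := fun g k => ⟨g * k * g⁻¹, (ConjClasses.mk_eq_mk_iff_isConj.mpr
            (isConj_iff.mpr ⟨g, rfl⟩)).symm.trans k.2⟩
          one_smul := fun k => Subtype.ext (by show 1 * k.1 * 1⁻¹ = k.1; simp)
          mul_smul := fun g h k => Subtype.ext (by
            show g * h * k.1 * (g * h)⁻¹ = g * (h * k.1 * h⁻¹) * g⁻¹; group) }
      letI : MulAction A X :=
        { smul := fun x k => ⟨aA x k, hinvA x k k.2⟩
          one_smul := fun k => Subtype.ext (by show aA 1 k = k; rw [map_one, MulAut.one_apply])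
          mul_smul := fun x y k => Subtype.ext (by
            show aA (x * y) k = aA x (aA y k); rw [map_mul, MulAut.mul_apply]) }
      obtain ⟨k, hk⟩ := Glauberman.exists_fixed_point (X := X) aA (fun x g k => Subtype.ext (by
          show aA x (g * k.1 * g⁻¹) = aA x g * aA x k.1 * (aA x g)⁻¹
          rw [map_mul, map_mul, map_inv]))
        (fun k l => by
          obtain ⟨g, hg⟩ := isConj_iff.mp (ConjClasses.mk_eq_mk_iff_isConj.mp (k.2.trans l.2.symm))
          exact ⟨g, Subtype.ext hg⟩)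
        hcopA (Or.inr hAsol)
      have hkA : k.1 ∈ Glauberman.fixed aA := fun x => congrArg Subtype.val (hk x)
      have hkP : k.1 ∈ Glauberman.fixed aP := fun x => hkA ⟨x, le_sup_right (a := (Q : Subgroup G)) x.2⟩
      obtain ⟨c, hc⟩ := isConj_iff.mp (Glauberman.isConj_fixed P.2 hMp (c := ⟨k.1, hkP⟩) (d := b)
        (ConjClasses.mk_eq_mk_iff_isConj.mp k.2))
      refine ⟨c, ?_⟩
      rw [← hc, show c⁻¹ * (c * ⟨k.1, hkP⟩ * c⁻¹) * c = ⟨k.1, hkP⟩ by group]
      exact hkA
    intro y hy b hb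
    have h1 : b ∈ Glauberman.fixed aA := (hK.ge (Subgroup.mem_top (⟨b, hb⟩ : Glauberman.fixed aP)) :)
    have h2 := congrArg Subtype.val (h1 ⟨y, le_sup_left (b := (P : Subgroup G)) hy⟩)
    exact mul_inv_eq_iff_eq_mul.1 h2
  refine ⟨Q, fun n hn => ?_⟩
  -- the conjugate is normalized by `P`, hence conjugate under the centralizer
  set V := MulAut.conj n • (Q : Subgroup G) with hV
  have hVL : V ≤ L := by
    rintro _ ⟨y, hy, rfl⟩
    exact (Subgroup.mem_normalizer_iff.1 (hNL hn) y).1 (hQL hy)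
  have hVP : (P : Subgroup G) ≤ Subgroup.normalizer (V : Set G) := by
    intro x hx
    have hx' : n⁻¹ * x * n ∈ (P : Subgroup G) := by
      simpa using (Subgroup.mem_normalizer_iff.1 (inv_mem hn) x).1 hx
    have h1 : n * (n⁻¹ * x * n) * n⁻¹ ∈
        Subgroup.normalizer (((Q : Subgroup G).map (MulAut.conj n).toMonoidHom : Subgroup G) : Set G) :=
      Subgroup.le_normalizer_map (MulAut.conj n).toMonoidHom ⟨_, hQ₀ hx', rfl⟩
    rw [show n * (n⁻¹ * x * n) * n⁻¹ = x by group] at h1
    exact h1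
  have hcard : Nat.card V = Nat.card Q₀ := by
    rw [hV, Lib.Coprime.card_conj_smul, hQe, Subgroup.card_map_of_injective L.subtype_injective]
  obtain ⟨k, hk, hkV⟩ := Lib.Coprime.exists_mem_conj_eq_of_sylow Q₀ hVL hcard
  rw [← hQe] at hkV
  obtain ⟨c, ⟨hcL, hcC⟩, hcV⟩ := Lib.Coprime.exists_centralizer_conj hPL hcopL (Or.inl hPsol) hQ₀ hVP hk hkV
  obtain ⟨y, hy, hym⟩ := hdec c hcL
  set b := y⁻¹ * c with hbdef
  have hcy : c = y * b := by rw [hbdef, mul_inv_cancel_left]
  have hbfix : (⟨b, hym⟩ : M) ∈ Glauberman.fixed aP := by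
    intro x
    apply Subtype.ext
    show (x : G) * b * (x : G)⁻¹ = b
    have h1 : (x : G) * c * (x : G)⁻¹ = c := by
      rw [Subgroup.mem_centralizer_iff.1 hcC x x.2, mul_inv_cancel_right]
    have hyx : (x : G) * y * (x : G)⁻¹ ∈ (Q : Subgroup G) := (Subgroup.mem_normalizer_iff.1 (hQ₀ x.2) y).1 hy
    have hbx : (x : G) * b * (x : G)⁻¹ ∈ M := hnP x x.2 b hym
    have h2 : ((x : G) * y * (x : G)⁻¹) * ((x : G) * b * (x : G)⁻¹) = y * b := by
      rw [← hcy]
      conv_rhs => rw [← h1, hcy]
      group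
    have h3 : y⁻¹ * ((x : G) * y * (x : G)⁻¹) = b * ((x : G) * b * (x : G)⁻¹)⁻¹ := by
      rw [eq_mul_inv_iff_mul_eq, mul_assoc, h2, inv_mul_cancel_left]
    have h4 : b * ((x : G) * b * (x : G)⁻¹)⁻¹ = 1 := Subgroup.disjoint_def.1 hQM
      (mul_mem hym (inv_mem hbx)) (h3 ▸ mul_mem (inv_mem hy) hyx)
    exact (mul_inv_eq_one.1 h4).symm
  have hbN : b ∈ Subgroup.normalizer ((Q : Subgroup G) : Set G) :=
    Subgroup.mem_normalizer_iff.2 fun z => by
      refine ⟨fun hz => ?_, fun hz => ?_⟩
      · rwa [← (hcent z hz ⟨b, hym⟩ hbfix).eq, mul_inv_cancel_right]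
      · have h5 := hcent _ hz ⟨b, hym⟩ hbfix
        have : b * z * b⁻¹ = z := by
          have h6 := h5.eq
          simp only [] at h6
          calc b * z * b⁻¹ = b⁻¹ * ((b * z * b⁻¹) * b) * 1 * 1 := by rw [h6]; group
            _ = z := by group
        rwa [this] at hz
  have hcN : c ∈ Subgroup.normalizer ((Q : Subgroup G) : Set G) := hcy ▸ mul_mem (Subgroup.le_normalizer hy) hbN
  refine Sylow.smul_eq_iff_mem_normalizer.1 (Sylow.ext ?_)
  rw [Sylow.coe_subgroup_smul, ← hV, ← hcV]
  exact congrArg Sylow.toSubgroup (Sylow.smul_eq_iff_mem_normalizer.2 hcN)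

/-- The normalizer of a Sylow `p`-subgroup normalizes a Sylow `q`-subgroup. -/
theorem normalizer_le : ∀ (n : ℕ) {G : Type u} [Group G] [Finite G] (_ : Nat.card G ≤ n)
    (_ : IsPSolvable p G) (_ : IsPSolvable q G) (_ : p ≠ q) (_ : Hyp p q G) (P : Sylow p G),
    ∃ Q : Sylow q G,
      Subgroup.normalizer ((P : Subgroup G) : Set G) ≤ Subgroup.normalizer ((Q : Subgroup G) : Set G) := by
  intro n
  induction n with
  | zero => intro G _ _ hn; exact absurd hn (by have := Nat.card_pos (α := G); omega)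
  | succ n ih =>
    intro G _ _ hn hps hqs hpq h P
    rcases subsingleton_or_nontrivial G with hG | hG
    · obtain ⟨Q⟩ := (inferInstance : Nonempty (Sylow q G))
      exact ⟨Q, fun x _ => Subsingleton.elim 1 x ▸ one_mem _⟩
    have step : ∀ (M : Subgroup G) [M.Normal], M ≠ ⊥ → ∃ Qb : Sylow q (G ⧸ M),
        Subgroup.normalizer ((P.mapSurjective (QuotientGroup.mk'_surjective M) : Subgroup (G ⧸ M)) : Set (G ⧸ M)) ≤
          Subgroup.normalizer ((Qb : Subgroup (G ⧸ M)) : Set (G ⧸ M)) := by
      intro M _ hM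
      refine ih ?_ (PLength.isPSolvable_map (QuotientGroup.mk'_surjective M) hps)
        (PLength.isPSolvable_map (QuotientGroup.mk'_surjective M) hqs) hpq (h.quotient M) _
      have h1 := Subgroup.card_eq_card_quotient_mul_card_subgroup M
      have h2 := M.one_lt_card_iff_ne_bot.2 hM
      have h3 := Nat.card_pos (α := G ⧸ M)
      nlinarith
    by_cases hq : pCore q G = ⊥
    swap
    · obtain ⟨Qb, hQb⟩ := step _ hq
      exact of_q_group _ (Hall.isPGroup_pCore q) Qb hQb
    rcases ne_bot_or_ne_bot hps with hp | hp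
    · -- a minimal normal subgroup in the centre of `O_p(G)`
      set O := pCore p G
      set Z := (Subgroup.center O).map O.subtype with hZ
      have : Nontrivial O := (Subgroup.nontrivial_iff_ne_bot O).2 hp
      have : Nontrivial (Subgroup.center O) := (Hall.isPGroup_pCore p).center_nontrivial
      have hZ1 : Z ≠ ⊥ := by
        rw [hZ, Ne, Subgroup.map_eq_bot_iff_of_injective _ O.subtype_injective]
        exact (Subgroup.nontrivial_iff_ne_bot _).1 ‹_›
      have hZn : Z.Normal := ConjAct.normal_of_characteristic_of_normal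
      obtain ⟨M, hMZ, hM⟩ := exists_minimal_le_of_wellFoundedLT (fun N : Subgroup G => N.Normal ∧ N ≠ ⊥) Z ⟨hZn, hZ1⟩
      have := hM.prop.1
      have hmin : ∀ N : Subgroup G, N.Normal → N ≤ M → N = ⊥ ∨ N = M := fun N hN hle => by
        by_cases hb : N = ⊥
        · exact Or.inl hb
        · exact Or.inr (le_antisymm hle (hM.le_of_le ⟨hN, hb⟩ hle))
      have : IsMulCommutative M := ⟨⟨fun a b => by
        obtain ⟨a', ha', hae⟩ := hMZ a.2
        obtain ⟨b', hb', hbe⟩ := hMZ b.2
        refine Subtype.ext ?_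
        show (a : G) * b = b * a
        rw [← hae, ← hbe]
        exact congrArg O.subtype (Subgroup.mem_center_iff.1 hb' a')⟩⟩
      have hMp : IsPGroup p M := (Hall.isPGroup_pCore p).to_le (hMZ.trans (Subgroup.map_subtype_le _))
      obtain ⟨Qb, hQb⟩ := step M hM.prop.2
      obtain ⟨Q₀⟩ := (inferInstance : Nonempty (Sylow q ((Qb : Subgroup (G ⧸ M)).comap (QuotientGroup.mk' M))))
      obtain ⟨Q, hQe, hdec⟩ := exists_lift M Qb Q₀
      have hQL : (Q : Subgroup G) ≤ (Qb : Subgroup (G ⧸ M)).comap (QuotientGroup.mk' M) :=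
        hQe ▸ Subgroup.map_subtype_le _
      have hMq : ¬ q ∣ Nat.card M := fun hd => by
        obtain ⟨j, hj⟩ := IsPGroup.iff_card.1 hMp
        rw [hj] at hd
        exact hpq ((Nat.prime_dvd_prime_iff_eq Fact.out Fact.out).1 ((Fact.out : q.Prime).dvd_of_dvd_pow hd)).symm
      refine ⟨Q, of_centralizes M hMq hQb hQL hdec fun y hy b hb => ?_⟩
      refine centralizes_pGroup hpq hps h M hMp hmin hM.prop.2 hQb y (hQL hy) ?_ b hb
      obtain ⟨k, hk⟩ := Q.2 ⟨y, hy⟩
      exact ⟨k, congrArg Subtype.val hk⟩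
    · -- a normal subgroup of order prime to `p` and `q`
      set R := pPrimeCore p G
      have hRs : IsPSolvable q R := GenStruct.PHall.isPSolvable_subgroup hqs R
      have : Nontrivial R := (Subgroup.nontrivial_iff_ne_bot R).2 hp
      have hRq : pPrimeCore q R ≠ ⊥ := (ne_bot_or_ne_bot hRs).resolve_left fun hne => by
        have : ((pCore q R).map R.subtype).Normal := ConjAct.normal_of_characteristic_of_normal
        have hle := Hall.le_pCore (G := G) ((Hall.isPGroup_pCore q).map R.subtype : IsPGroup q ↥((pCore q R).map R.subtype))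
        rw [hq, le_bot_iff, Subgroup.map_eq_bot_iff_of_injective _ R.subtype_injective] at hle
        exact hne hle
      set M := (pPrimeCore q R).map R.subtype
      have : M.Normal := ConjAct.normal_of_characteristic_of_normal
      have hM1 : M ≠ ⊥ := by
        rw [Ne, Subgroup.map_eq_bot_iff_of_injective _ R.subtype_injective]; exact hRq
      obtain ⟨Qb, hQb⟩ := step M hM1
      refine of_pq_prime hpq hps h M ?_ ?_ Qb hQb
      · exact fun hd => Hall.not_dvd_card_pPrimeCore (G := G) (Fact.out : p.Prime)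
          (hd.trans (Subgroup.card_dvd_of_le (Subgroup.map_subtype_le _)))
      · rw [Subgroup.card_map_of_injective R.subtype_injective]
        exact Hall.not_dvd_card_pPrimeCore Fact.out

end Cfsg.Agent.Lib.PQDegree
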