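import Cfsg.Agent.Lib.PQDegree.Basic
import Cfsg.Agent.Lib.Hall.Gaschutz
import Cfsg.Agent.Lib.Coprime.Action
import Cfsg.Agent.Lib.Glauberman.CoprimeDegree
import Cfsg.Agent.Lib.Glauberman.Coset
import Cfsg.Agent.Lib.Char.Ito
import Cfsg.Agent.S0053
import Mathlib.GroupTheory.SchurZassenhaus
import Mathlib.GroupTheory.FiniteAbelian.Duality

/-! In a `p`-solvable and `q`-solvable group with all `p'`-degrees prime to `q`, the normalizer of a
Sylow `p`-subgroup normalizes a Sylow `q`-subgroup. -/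

set_option autoImplicit false
set_option linter.unusedSectionVars false

namespace Cfsg.Agent.Lib.PQDegree

open Cfsg Cfsg.Agent.Lib.Char
open scoped ComplexConjugate Pointwise Classical IsMulCommutative

universe u

variable {G : Type u} [Group G] [Finite G] {p q : ℕ} [Fact p.Prime] [Fact q.Prime]

/-- The full preimage of a Sylow `q`-subgroup of a quotient contains a Sylow `q`-subgroup. -/
theorem exists_lift (M : Subgroup G) [M.Normal] (Qb : Sylow q (G ⧸ M))
    (Q₀ : Sylow q ((Qb : Subgroup (G ⧸ M)).comap (QuotientGroup.mk' M))) :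
    ∃ Q : Sylow q G,
      (Q : Subgroup G) = (Q₀ : Subgroup ((Qb : Subgroup (G ⧸ M)).comap (QuotientGroup.mk' M))).map
        ((Qb : Subgroup (G ⧸ M)).comap (QuotientGroup.mk' M)).subtype ∧
      ∀ x ∈ (Qb : Subgroup (G ⧸ M)).comap (QuotientGroup.mk' M), ∃ y ∈ (Q : Subgroup G), y⁻¹ * x ∈ M := by
  have hL : ((Qb : Subgroup (G ⧸ M)).comap (QuotientGroup.mk' M)).index = (Qb : Subgroup (G ⧸ M)).index :=
    Subgroup.index_comap_of_surjective _ (QuotientGroup.mk'_surjective M)
  have hpg : IsPGroup q ↥((Q₀ : Subgroup _).map ((Qb : Subgroup (G ⧸ M)).comap (QuotientGroup.mk' M)).subtype) :=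
    Q₀.2.map _
  have hidx : ¬ q ∣ ((Q₀ : Subgroup _).map ((Qb : Subgroup (G ⧸ M)).comap (QuotientGroup.mk' M)).subtype).index := by
    rw [Subgroup.index_map_subtype]
    exact fun h => ((Fact.out : q.Prime).dvd_mul.1 h).elim Q₀.not_dvd_index fun h' => Qb.not_dvd_index (hL ▸ h')
  refine ⟨hpg.toSylow hidx, rfl, fun x hx => ?_⟩
  have hle : ((hpg.toSylow hidx).mapSurjective (QuotientGroup.mk'_surjective M) : Subgroup (G ⧸ M)) ≤ Qb := by
    rintro _ ⟨y, hy, rfl⟩
    have hy' : y ∈ (Q₀ : Subgroup _).map ((Qb : Subgroup (G ⧸ M)).comap (QuotientGroup.mk' M)).subtype := hy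
    exact Subgroup.mem_comap.1 (Subgroup.map_subtype_le _ hy')
  have heq := ((hpg.toSylow hidx).mapSurjective (QuotientGroup.mk'_surjective M)).3 Qb.2 hle
  have hx' : QuotientGroup.mk' M x ∈ (Qb : Subgroup (G ⧸ M)) := hx
  rw [heq] at hx'
  obtain ⟨y, hy, hyx⟩ := hx'
  exact ⟨y, hy, QuotientGroup.eq.1 hyx⟩

theorem normalizer_le_comap (M : Subgroup G) [M.Normal] {P : Sylow p G} {Qb : Sylow q (G ⧸ M)}
    (h : Subgroup.normalizer ((P.mapSurjective (QuotientGroup.mk'_surjective M) : Subgroup (G ⧸ M)) : Set (G ⧸ M)) ≤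
      Subgroup.normalizer ((Qb : Subgroup (G ⧸ M)) : Set (G ⧸ M))) :
    Subgroup.normalizer ((P : Subgroup G) : Set G) ≤
      Subgroup.normalizer (((Qb : Subgroup (G ⧸ M)).comap (QuotientGroup.mk' M) : Subgroup G) : Set G) := by
  intro n hn
  refine Subgroup.le_normalizer_comap (QuotientGroup.mk' M) (h ?_)
  exact Subgroup.le_normalizer_map (QuotientGroup.mk' M) ⟨n, hn, rfl⟩

/-- Case of a normal `q`-subgroup. -/
theorem of_q_group (M : Subgroup G) [M.Normal] (hM : IsPGroup q M) {P : Sylow p G} (Qb : Sylow q (G ⧸ M))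
    (h : Subgroup.normalizer ((P.mapSurjective (QuotientGroup.mk'_surjective M) : Subgroup (G ⧸ M)) : Set (G ⧸ M)) ≤
      Subgroup.normalizer ((Qb : Subgroup (G ⧸ M)) : Set (G ⧸ M))) :
    ∃ Q : Sylow q G,
      Subgroup.normalizer ((P : Subgroup G) : Set G) ≤ Subgroup.normalizer ((Q : Subgroup G) : Set G) := by
  set L := (Qb : Subgroup (G ⧸ M)).comap (QuotientGroup.mk' M) with hL
  have hLq : IsPGroup q L := Qb.2.comap_of_ker_isPGroup _ (by rw [QuotientGroup.ker_mk']; exact hM)
  have hidx : ¬ q ∣ L.index := by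
    rw [hL, Subgroup.index_comap_of_surjective _ (QuotientGroup.mk'_surjective M)]
    exact Qb.not_dvd_index
  exact ⟨hLq.toSylow hidx, normalizer_le_comap M h⟩

/-- If the lifted Sylow `q`-subgroup centralizes the kernel of order prime to `q`. -/
theorem of_centralizes (M : Subgroup G) [M.Normal] (hM : ¬ q ∣ Nat.card M) {P : Sylow p G}
    {Qb : Sylow q (G ⧸ M)}
    (h : Subgroup.normalizer ((P.mapSurjective (QuotientGroup.mk'_surjective M) : Subgroup (G ⧸ M)) : Set (G ⧸ M)) ≤
      Subgroup.normalizer ((Qb : Subgroup (G ⧸ M)) : Set (G ⧸ M)))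
    {Q : Sylow q G} (hQL : (Q : Subgroup G) ≤ (Qb : Subgroup (G ⧸ M)).comap (QuotientGroup.mk' M))
    (hdec : ∀ x ∈ (Qb : Subgroup (G ⧸ M)).comap (QuotientGroup.mk' M), ∃ y ∈ (Q : Subgroup G), y⁻¹ * x ∈ M)
    (hc : ∀ y ∈ (Q : Subgroup G), ∀ m ∈ M, Commute y m) :
    Subgroup.normalizer ((P : Subgroup G) : Set G) ≤ Subgroup.normalizer ((Q : Subgroup G) : Set G) := by
  intro n hn
  refine mem_normalizer_finite_aux fun y hy => ?_
  have hz := (Subgroup.mem_normalizer_iff.1 (normalizer_le_comap M h hn) y).1 (hQL hy)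
  obtain ⟨y', hy', hm⟩ := hdec _ hz
  set m := y'⁻¹ * (n * y * n⁻¹)
  have hzy : n * y * n⁻¹ = y' * m := by simp [m, mul_assoc]
  obtain ⟨k, hk⟩ := IsPGroup.iff_card.1 Q.2
  have h1 : y ^ q ^ k = 1 := by
    rw [← hk]; exact congrArg Subtype.val (pow_card_eq_one' (x := (⟨y, hy⟩ : (Q : Subgroup G))))
  have h2 : y' ^ q ^ k = 1 := by
    rw [← hk]; exact congrArg Subtype.val (pow_card_eq_one' (x := (⟨y', hy'⟩ : (Q : Subgroup G))))
  have h3 : m ^ q ^ k = 1 := by
    have := congrArg (· ^ q ^ k) hzy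
    simpa [conj_pow, h1, (hc y' hy' m hm).mul_pow, h2] using this.symm
  have h4 : m = 1 := orderOf_eq_one_iff.1 (Nat.eq_one_of_dvd_coprimes
    (((Fact.out : q.Prime).coprime_iff_not_dvd.2 hM).pow_left k) (orderOf_dvd_of_pow_eq_one h3)
    (by rw [← Subgroup.orderOf_mk m hm]; exact orderOf_dvd_natCard _))
  rw [hzy, h4, mul_one]
  exact hy'
where
  mem_normalizer_finite_aux {H : Subgroup G} {n : G} (hn : ∀ y ∈ H, n * y * n⁻¹ ∈ H) :
      n ∈ Subgroup.normalizer (H : Set G) := by
    have hle : H.map (MulAut.conj n).toMonoidHom ≤ H := by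
      rintro _ ⟨y, hy, rfl⟩
      exact hn y hy
    have heq := Subgroup.eq_of_le_of_card_ge hle (Subgroup.card_map_of_injective (MulAut.conj n).injective).ge
    refine Subgroup.mem_normalizer_iff.2 fun y => ⟨hn y, fun hy => ?_⟩
    rw [← heq] at hy
    obtain ⟨z, hz, hzy⟩ := hy
    rwa [← (MulAut.conj n).injective hzy]

theorem normalizer_map_le (M : Subgroup G) [M.Normal] {P : Sylow p G} (T : Subgroup G)
    (hPT : (P : Subgroup G) ≤ T) :
    ((P.mapSurjective (QuotientGroup.mk'_surjective M) : Sylow p (G ⧸ M)) : Subgroup (G ⧸ M)) ≤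
      T.map (QuotientGroup.mk' M) := Subgroup.map_mono hPT

/-- An extendible invariant character is fixed by the preimage of the normalized Sylow subgroup. -/
theorem le_inertia_of_ext (hpq : p ≠ q) (hps : IsPSolvable p G) (h : Hyp p q G) (M : Subgroup G) [M.Normal]
    {P : Sylow p G} {Qb : Sylow q (G ⧸ M)}
    (hQb : Subgroup.normalizer ((P.mapSurjective (QuotientGroup.mk'_surjective M) : Subgroup (G ⧸ M)) : Set (G ⧸ M)) ≤
      Subgroup.normalizer ((Qb : Subgroup (G ⧸ M)) : Set (G ⧸ M)))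
    {U : Subgroup G} (hMU : M ≤ U) (hPU : (P : Subgroup G) ≤ U) {θ : M → ℂ} (hθ : IsIrrCharacter M θ)
    (hPθ : (P : Subgroup G) ≤ inertia M θ)
    {η : U → ℂ} (hη : IsIrrCharacter U η) (hres : ∀ m : M, η ⟨m, hMU m.2⟩ = θ m) (hd : ¬ p ∣ charDegree θ) :
    (Qb : Subgroup (G ⧸ M)).comap (QuotientGroup.mk' M) ≤ inertia M θ := by
  have hU : ¬ p ∣ U.index := fun hh => P.not_dvd_index (hh.trans (Subgroup.index_dvd_of_le hPU))
  have hq := not_dvd_index_inertia h M hMU hU hθ hη hres hd
  have hMi : M ≤ inertia M θ := le_inertia M (isClassFunction_of_isIrr hθ)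
  have hle := le_of_index hpq (PLength.isPSolvable_map (QuotientGroup.mk'_surjective M) hps) hQb
    ((inertia M θ).map (QuotientGroup.mk' M)) (normalizer_map_le M _ hPθ)
    (by rwa [Subgroup.index_map_eq _ (QuotientGroup.mk'_surjective M) (by rwa [QuotientGroup.ker_mk'])])
  intro x hx
  obtain ⟨y, hy, hyx⟩ := hle hx
  have := QuotientGroup.eq.1 hyx
  simpa using mul_mem hy (hMi this)

/-- Case of a normal abelian `p`-subgroup: the lifted Sylow subgroup centralizes it. -/
theorem centralizes_pGroup (hpq : p ≠ q) (hps : IsPSolvable p G) (h : Hyp p q G) (M : Subgroup G) [M.Normal]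
    [IsMulCommutative M] (hM : IsPGroup p M)
    (hmin : ∀ N : Subgroup G, N.Normal → N ≤ M → N = ⊥ ∨ N = M) (hM1 : M ≠ ⊥)
    {P : Sylow p G} {Qb : Sylow q (G ⧸ M)}
    (hQb : Subgroup.normalizer ((P.mapSurjective (QuotientGroup.mk'_surjective M) : Subgroup (G ⧸ M)) : Set (G ⧸ M)) ≤
      Subgroup.normalizer ((Qb : Subgroup (G ⧸ M)) : Set (G ⧸ M)))
    (y : G) (hy : y ∈ (Qb : Subgroup (G ⧸ M)).comap (QuotientGroup.mk' M)) (hyo : ∃ k, y ^ q ^ k = 1)
    (m : G) (hm : m ∈ M) : Commute y m := by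
  have hp : p.Prime := Fact.out
  have hMP : M ≤ (P : Subgroup G) := (Hall.le_pCore hM).trans (Hall.pCore_le_sylow P)
  have hPbar := hQb
  by_cases hfr : M ≤ frattini G
  · -- the `p'`-core of the quotient lifts to a direct product
    have hR : ¬ q ∣ (pPrimeCore p (G ⧸ M)).index :=
      (S4602.result p q hpq (PLength.isPSolvable_map (QuotientGroup.mk'_surjective M) hps)).1
        ⟨_, Qb, Subgroup.le_normalizer.trans hQb⟩
    set R := pPrimeCore p (G ⧸ M) with hRdef
    set X := R.comap (QuotientGroup.mk' M) with hX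
    have hXn : X.Normal := inferInstance
    have hMX : M ≤ X := fun x hx => by
      rw [hX, Subgroup.mem_comap, QuotientGroup.mk'_apply, (QuotientGroup.eq_one_iff x).2 hx]
      exact one_mem R
    set K := M.subgroupOf X
    have hKidx : K.index = Nat.card R := by
      have h1 : (M.comap X.subtype).index = M.relIndex X := rfl
      rw [show K.index = M.relIndex X from rfl, hX]
      have h2 := Subgroup.relIndex_comap ⊥ (QuotientGroup.mk' M) (R.comap (QuotientGroup.mk' M))
      rw [MonoidHom.comap_bot, QuotientGroup.ker_mk', Subgroup.map_comap_eq_self_of_surjective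
        (QuotientGroup.mk'_surjective M), Subgroup.relIndex_bot_left] at h2
      exact h2
    have hcopK : (Nat.card K).Coprime K.index := by
      obtain ⟨j, hj⟩ := IsPGroup.iff_card.1 hM
      rw [hKidx, Nat.card_congr (Subgroup.subgroupOfEquivOfLe hMX).toEquiv, hj]
      exact (Hall.coprime_card_pPrimeCore p).symm.pow_left j
    have : IsMulCommutative K := ⟨⟨fun a b => Subtype.ext (Subtype.ext
      (show ((a : X) : G) * ((b : X) : G) = ((b : X) : G) * ((a : X) : G) from
        congrArg Subtype.val (mul_comm' (⟨((a : X) : G), a.2⟩ : M) ⟨((b : X) : G), b.2⟩)))⟩⟩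
    obtain ⟨R₀, hR₀⟩ := Subgroup.exists_right_complement'_of_coprime hcopK
    set N := Subgroup.normalizer ((R₀.map X.subtype : Subgroup G) : Set G) with hN
    have hdecX : ∀ x ∈ X, ∃ a ∈ M, a⁻¹ * x ∈ R₀.map X.subtype := by
      intro x hx
      obtain ⟨⟨⟨a, ha⟩, ⟨b, hb⟩⟩, hab⟩ := hR₀.2 ⟨x, hx⟩
      refine ⟨a, ha, ⟨b, hb, ?_⟩⟩
      have := congrArg Subtype.val hab
      simp only [Subgroup.coe_mul] at this
      show (b : G) = _
      rw [← this, inv_mul_cancel_left]
    have hXMN : X ≤ M ⊔ N := fun x hx => by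
      obtain ⟨a, ha, hb⟩ := hdecX x hx
      rw [show x = a * (a⁻¹ * x) by group]
      exact mul_mem (Subgroup.mem_sup_left ha) (Subgroup.mem_sup_right (Subgroup.le_normalizer hb))
    have htop : M ⊔ N = ⊤ := top_unique fun g _ => by
      let e : X ≃* X := MulAut.conjNormal g
      have hc' : K.IsComplement' (R₀.map e.toMonoidHom) := by
        refine Subgroup.isComplement'_of_disjoint_and_mul_eq_univ (disjoint_iff.2 (eq_bot_iff.2 ?_))
          (Set.eq_univ_of_forall fun x => ?_)
        · rintro x ⟨hxK, ⟨z, hz, rfl⟩⟩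
          have hzK : z ∈ K := by
            have : g * (z : G) * g⁻¹ ∈ M := by
              rw [← MulAut.conjNormal_apply (H := X)]; exact hxK
            show (z : G) ∈ M
            have h2 := (inferInstance : M.Normal).conj_mem _ this g⁻¹
            simpa [mul_assoc] using h2
          have : z = 1 := Subgroup.disjoint_def.1 hR₀.disjoint hzK hz
          simp [this]
        · obtain ⟨⟨⟨a, ha⟩, ⟨b, hb⟩⟩, hab⟩ := hR₀.2 (e.symm x)
          refine ⟨e a, ?_, e b, ⟨b, hb, rfl⟩, ?_⟩
          · show (e a : G) ∈ M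
            rw [MulAut.conjNormal_apply]
            exact (inferInstance : M.Normal).conj_mem _ ha g
          · show e a * e b = x
            rw [← map_mul, show a * b = e.symm x from hab, MulEquiv.apply_symm_apply]
      obtain ⟨c, hc⟩ := Hall.exists_conj_of_inf_eq K le_rfl hcopK hR₀ hc' (by
        rw [inf_comm, hR₀.disjoint.eq_bot, inf_comm, hc'.disjoint.eq_bot])
      have hcN : (c : G)⁻¹ * g ∈ N := by
        refine of_centralizes.mem_normalizer_finite_aux fun z hz => ?_
        obtain ⟨z, hz, rfl⟩ := hz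
        have h1 : e z ∈ MulAut.conj c • R₀ := hc.symm ▸ ⟨z, hz, rfl⟩
        obtain ⟨w, hw, hwz⟩ := h1
        refine ⟨w, hw, ?_⟩
        have h2 := congrArg Subtype.val hwz
        simp only [MulDistribMulAction.toMonoidEnd_apply, MulDistribMulAction.toMonoidHom_apply,
          MulAut.smul_def, MulAut.conj_apply, Subgroup.coe_mul, InvMemClass.coe_inv,
          MulAut.conjNormal_apply, e] at h2
        show (w : G) = (c : G)⁻¹ * g * z * ((c : G)⁻¹ * g)⁻¹
        rw [show (c : G)⁻¹ * g * z * ((c : G)⁻¹ * g)⁻¹ = (c : G)⁻¹ * (g * z * g⁻¹) * c by group, ← h2]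
        group
      rw [show g = (c : G) * ((c : G)⁻¹ * g) by group]
      exact mul_mem (hXMN c.2) (Subgroup.mem_sup_right hcN)
    have hNt : N = ⊤ := frattini_nongenerating (top_unique (htop.ge.trans (sup_le (hfr.trans le_sup_right) le_sup_left)))
    have hRn : (R₀.map X.subtype).Normal := Subgroup.normalizer_eq_top_iff.1 hNt
    have hdis : Disjoint M (R₀.map X.subtype) := disjoint_iff.2 (eq_bot_iff.2 fun x ⟨hxM, ⟨z, hz, hzx⟩⟩ => by
      subst hzx
      have : z = 1 := Subgroup.disjoint_def.1 hR₀.disjoint (show z ∈ K from hxM) hz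
      simp [this])
    have hcm : ∀ a ∈ M, ∀ b ∈ R₀.map X.subtype, Commute a b := fun a ha b hb =>
      Subgroup.commute_of_normal_of_disjoint _ _ inferInstance hRn hdis a b ha hb
    have hyR : (QuotientGroup.mk' M y) ∈ R := by
      have hle : (Qb : Subgroup (G ⧸ M)) ≤ R := by
        intro z hz
        rw [← QuotientGroup.eq_one_iff]
        obtain ⟨j, hj⟩ := IsPGroup.iff_card.1 Qb.2
        refine orderOf_eq_one_iff.1 (Nat.eq_one_of_dvd_coprimes
          (((Fact.out : q.Prime).coprime_iff_not_dvd.2 hR).pow_left j) ?_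
          (Subgroup.index_eq_card R ▸ orderOf_dvd_natCard _))
        refine (orderOf_map_dvd (QuotientGroup.mk' R) z).trans ?_
        rw [← hj, ← Subgroup.orderOf_mk z hz]
        exact orderOf_dvd_natCard _
      exact hle hy
    obtain ⟨a, ha, hb⟩ := hdecX y hyR
    obtain ⟨k, hk⟩ := hyo
    have hy' : y = a * (a⁻¹ * y) := by group
    have ha1 : a ^ q ^ k * (a⁻¹ * y) ^ q ^ k = 1 := by
      rw [← (hcm a ha _ hb).mul_pow, ← hy', hk]
    have ha2 : a ^ q ^ k = 1 := Subgroup.disjoint_def.1 hdis (pow_mem ha _)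
      (by rw [eq_inv_of_mul_eq_one_left ha1]; exact inv_mem (pow_mem hb _))
    have ha3 : a = 1 := by
      obtain ⟨j, hj⟩ := IsPGroup.iff_card.1 hM
      refine orderOf_eq_one_iff.1 (Nat.eq_one_of_dvd_coprimes
        ((((Nat.coprime_primes (Fact.out : q.Prime) hp).2 hpq.symm).pow_left k).pow_right j)
        (orderOf_dvd_of_pow_eq_one ha2) ?_)
      rw [← hj, ← Subgroup.orderOf_mk a ha]
      exact orderOf_dvd_natCard _
    rw [ha3, inv_one, one_mul] at hb
    exact (hcm m hm y hb).symm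
  · -- a complemented minimal normal subgroup: use the linear characters
    obtain ⟨H, hH⟩ := (S0053.result M hM1 hmin).2 hfr
    set PH := (P : Subgroup G) ⊓ H
    have hdec : ∀ u ∈ (P : Subgroup G), ∃ a ∈ M, a⁻¹ * u ∈ PH := fun u hu => by
      obtain ⟨⟨⟨a, ha⟩, ⟨b, hb⟩⟩, hab⟩ := hH.2 u
      have hab' : a * b = u := hab
      have e : a⁻¹ * u = b := by rw [← hab', inv_mul_cancel_left]
      exact ⟨a, ha, Subgroup.mem_inf.2 ⟨mul_mem (inv_mem (hMP ha)) hu, e ▸ hb⟩⟩
    have hdis : M ⊓ PH = ⊥ := eq_bot_iff.2 ((inf_le_inf_left M inf_le_right).trans hH.disjoint.eq_bot.le)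
    let φ : G ⧸ M →* MulAut M := QuotientGroup.lift M MulAut.conjNormal fun a ha => by
      rw [MonoidHom.mem_ker]
      refine MulEquiv.ext fun b => Subtype.ext ?_
      rw [MulAut.conjNormal_apply, show a * (b : G) = b * a from
        congrArg Subtype.val (mul_comm' (⟨a, ha⟩ : M) b), mul_inv_cancel_right]
      rfl
    have hφ : ∀ (g : G) (b : M), φ (g : G ⧸ M) b = MulAut.conjNormal g b := fun g b => rfl
    have : Finite (M →* ℂˣ) := Glauberman.finite_linearHom M
    have := Fintype.ofFinite (Qb : Subgroup (G ⧸ M))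
    let tw : G ⧸ M → (M →* ℂˣ) →* (M →* ℂˣ) := fun x =>
      { toFun := fun v => v.comp (φ x).toMonoidHom, map_one' := rfl, map_mul' := fun _ _ => rfl }
    have htw : ∀ x z v, tw (x * z) v = tw z (tw x v) := fun x z v =>
      MonoidHom.ext fun b => by simp [tw, map_mul]
    have hfixL : ∀ v : M →* ℂˣ, (∀ g ∈ (P : Subgroup G), tw g v = v) →
        ∀ x ∈ (Qb : Subgroup (G ⧸ M)), tw x v = v := by
      intro v hv x hx
      have hconj : ∀ g : G, tw g v = v → conjChar M g (fun b => (v b : ℂ)) = fun b => (v b : ℂ) := by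
        intro g hg
        rw [conjChar_eq_comp]
        funext b
        exact congrArg Units.val (DFunLike.congr_fun hg b)
      obtain ⟨μ, hμ⟩ := exists_hom_extend M hMP inf_le_left hdec hdis v (fun k hk b => by
        have := DFunLike.congr_fun (hv k hk.1) b
        rw [← this]
        exact congrArg v (Subtype.ext (MulAut.conjNormal_apply k b).symm))
      have hle := le_inertia_of_ext hpq hps h M hQb hMP le_rfl (θ := fun b : M => (v b : ℂ))
        (isIrrCharacter_linear v) (fun g hg => hconj g (hv g hg)) (η := fun u => (μ u : ℂ))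
        (isIrrCharacter_linear μ) (fun b => congrArg Units.val (hμ b))
        (by simp [charDegree, hp.ne_one])
      obtain ⟨g, rfl⟩ := QuotientGroup.mk'_surjective M x
      have h1 := (mem_inertia M).1 (hle hx)
      rw [conjChar_eq_comp] at h1
      exact MonoidHom.ext fun b => Units.ext (congrFun h1 b)
    let T : (M →* ℂˣ) →* (M →* ℂˣ) := ∏ x : (Qb : Subgroup (G ⧸ M)), tw x
    have hT : ∀ v, T v = ∏ x : (Qb : Subgroup (G ⧸ M)), tw x v := fun v => MonoidHom.finsetProd_apply _ _ _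
    have hTQ : ∀ (x : (Qb : Subgroup (G ⧸ M))) v, tw x (T v) = T v := by
      intro x v
      rw [hT, map_prod]
      exact Fintype.prod_equiv (Equiv.mulRight x) _ _ fun z => (htw z x v).symm
    have hTP : ∀ g ∈ (P : Subgroup G), ∀ v, tw g (T v) = T (tw g v) := by
      intro g hg v
      have hgN : (g : G ⧸ M) ∈ Subgroup.normalizer ((Qb : Subgroup (G ⧸ M)) : Set (G ⧸ M)) :=
        hQb (Subgroup.le_normalizer ⟨g, hg, rfl⟩)
      rw [hT, hT, map_prod]
      let e : (Qb : Subgroup (G ⧸ M)) ≃ (Qb : Subgroup (G ⧸ M)) :=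
        { toFun := fun x => ⟨(g : G ⧸ M)⁻¹ * x * g, by
            simpa using (Subgroup.mem_normalizer_iff.1 (inv_mem hgN) x).1 x.2⟩
          invFun := fun x => ⟨(g : G ⧸ M) * x * (g : G ⧸ M)⁻¹, (Subgroup.mem_normalizer_iff.1 hgN x).1 x.2⟩
          left_inv := fun x => Subtype.ext (by simp [mul_assoc])
          right_inv := fun x => Subtype.ext (by simp [mul_assoc]) }
      refine Fintype.prod_equiv e _ _ fun x => ?_
      show tw g (tw x v) = tw ((g : G ⧸ M)⁻¹ * x * g) (tw g v)
      rw [← htw, ← htw]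
      congr 1
      group
    have hTinj : T.ker = ⊥ := by
      by_contra hne
      let act : MulAction (P : Subgroup G) T.ker :=
        { smul := fun g v => ⟨tw ((g⁻¹ : (P : Subgroup G)) : G) v, by
            rw [MonoidHom.mem_ker, ← hTP _ (g⁻¹ : (P : Subgroup G)).2, MonoidHom.mem_ker.1 v.2, map_one]⟩
          one_smul := fun v => Subtype.ext (MonoidHom.ext fun b => by
            show ((v : M →* ℂˣ)) (φ _ b) = _
            simp)
          mul_smul := fun g k v => Subtype.ext (by
            show tw (((g * k)⁻¹ : (P : Subgroup G)) : G) v = tw ((g⁻¹ : (P : Subgroup G)) : G) (tw ((k⁻¹ : (P : Subgroup G)) : G) v)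
            rw [← htw, mul_inv_rev]
            rfl) }
      have hVp : IsPGroup p T.ker := by
        intro v
        obtain ⟨j, hj⟩ := IsPGroup.iff_card.1 hM
        refine ⟨j, Subtype.ext (MonoidHom.ext fun b => ?_)⟩
        show ((v : M →* ℂˣ) ^ p ^ j) b = 1
        rw [MonoidHom.pow_apply, ← map_pow, ← hj, pow_card_eq_one', map_one]
      have hdvd : p ∣ Nat.card T.ker := by
        obtain ⟨j, hj⟩ := IsPGroup.iff_card.1 hVp
        rw [hj]
        exact dvd_pow_self p fun h0 => hne (Subgroup.eq_bot_of_card_le _ (by rw [hj, h0, pow_zero]))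
      obtain ⟨v, hv, hv1⟩ := P.2.exists_fixed_point_of_prime_dvd_card_of_fixed_point T.ker hdvd
        (a := (1 : T.ker)) (fun g => Subtype.ext (map_one (tw ((g⁻¹ : (P : Subgroup G)) : G))))
      refine hv1 ?_
      have hfix := hfixL v.1 fun g hg => by
        have := congrArg Subtype.val (hv ((⟨g, hg⟩ : (P : Subgroup G))⁻¹))
        rwa [show (((⟨g, hg⟩ : (P : Subgroup G))⁻¹ • v : T.ker) : M →* ℂˣ) =
          tw (((⟨g, hg⟩ : (P : Subgroup G))⁻¹⁻¹ : (P : Subgroup G)) : G) v.1 from rfl, inv_inv] at this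
      have hpow : (v.1 : M →* ℂˣ) ^ Nat.card (Qb : Subgroup (G ⧸ M)) = 1 := by
        rw [← MonoidHom.mem_ker.1 v.2, hT, Finset.prod_congr rfl fun (x : (Qb : Subgroup (G ⧸ M))) _ => hfix (x : G ⧸ M) x.2, Finset.prod_const,
          Finset.card_univ, Nat.card_eq_fintype_card]
      obtain ⟨k, hk⟩ := IsPGroup.iff_card.1 Qb.2
      obtain ⟨i, hi⟩ := (IsPGroup.iff_orderOf (p := p)).1 hVp v
      refine (Subtype.ext ?_ : (1 : T.ker) = v)
      symm
      refine orderOf_eq_one_iff.1 (Nat.eq_one_of_dvd_coprimes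
        ((((Nat.coprime_primes hp (Fact.out : q.Prime)).2 hpq).pow_left i).pow_right k) ?_
        (hk ▸ orderOf_dvd_of_pow_eq_one hpow))
      rw [Subgroup.orderOf_coe, hi]
    have hsurj : Function.Surjective T :=
      Finite.surjective_of_injective ((MonoidHom.ker_eq_bot_iff T).1 hTinj)
    -- all linear characters are fixed, so the subgroup acts trivially
    by_contra hne
    have hne' : φ (y : G ⧸ M) ⟨m, hm⟩ * (⟨m, hm⟩ : M)⁻¹ ≠ 1 := fun he => hne (by
      rw [mul_inv_eq_one, hφ] at he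
      have := congrArg Subtype.val he
      rw [MulAut.conjNormal_apply] at this
      exact mul_inv_eq_iff_eq_mul.1 this)
    have : NeZero (Monoid.exponent M) := ⟨Monoid.exponent_ne_zero_of_finite⟩
    have : NeZero (Monoid.exponent M : ℂ) := NeZero.charZero
    obtain ⟨v, hv⟩ := CommGroup.exists_apply_ne_one_of_hasEnoughRootsOfUnity M ℂ hne'
    obtain ⟨u, rfl⟩ := hsurj v
    refine hv ?_
    rw [map_mul, map_inv, mul_inv_eq_one]
    exact DFunLike.congr_fun (hTQ ⟨(y : G ⧸ M), hy⟩ u) ⟨m, hm⟩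

end Cfsg.Agent.Lib.PQDegree
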